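import Cfsg.Agent.Characters.Core
import Cfsg.Agent.Characters.Values
import Cfsg.Agent.Characters.Central
import Cfsg.Prelude.Def_Blocks
set_option linter.all false

/-!
# S4793, task HEIS: characters of groups `U R` with `U` a group of Heisenberg type (helper418)
-/

set_option autoImplicit false
set_option linter.unusedVariables false

open Cfsg
open scoped ComplexConjugate

namespace Cfsg.Agent.H418.CC

open Cfsg.Agent.Characters Cfsg.Agent.Characters.Core

universe u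

section aux

variable {G : Type u} [Group G]

theorem charDegree_eq [Finite G] {χ : G → ℂ} (hχ : IsCharacter G χ) : χ 1 = charDegree χ := by
  obtain ⟨n, hn⟩ := isCharacter_apply_one hχ
  rw [charDegree, hn, Complex.natCast_re, Nat.floor_natCast]

theorem norm_le [Finite G] {χ : G → ℂ} (hχ : IsCharacter G χ) (g : G) : ‖χ g‖ ≤ charDegree χ := by
  have h1 := charDegree_eq hχ
  obtain ⟨n, ρ, rfl⟩ := hχ
  have h2 := Values.norm_character_le ρ g
  have h3 : ρ.character 1 = (Module.finrank ℂ (Fin n → ℂ) : ℂ) := Representation.char_one ρ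
  rw [h3] at h1
  have h4 : Module.finrank ℂ (Fin n → ℂ) = charDegree ρ.character := by exact_mod_cast h1
  rwa [h4] at h2

theorem sumsq_eq [Fintype G] (χ : G → ℂ) :
    classInner χ χ = (((Nat.card G : ℝ)⁻¹ * ∑ g : G, ‖χ g‖ ^ 2 : ℝ) : ℂ) := by
  rw [classInner_self_eq_ofReal]
  simp only [Complex.normSq_eq_norm_sq]

theorem le_sumsq [Fintype G] {χ : G → ℂ} (hχ : IsCharacter G χ) (h1 : χ 1 ≠ 0) :
    (Nat.card G : ℝ) ≤ ∑ g : G, ‖χ g‖ ^ 2 := by
  obtain ⟨n, hn⟩ := classInner_isNat hχ hχ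
  have hn0 : n ≠ 0 := by
    rintro rfl
    rw [Nat.cast_zero] at hn
    exact h1 (congrFun (classInner_self_eq_zero hn) 1)
  have hc : (0 : ℝ) < Nat.card G := by exact_mod_cast Nat.card_pos
  have h2 : (n : ℝ) = (Nat.card G : ℝ)⁻¹ * ∑ g : G, ‖χ g‖ ^ 2 := by
    have := sumsq_eq χ
    rw [hn] at this
    exact_mod_cast this
  have h3 : (1 : ℝ) ≤ n := by exact_mod_cast Nat.one_le_iff_ne_zero.2 hn0
  rw [h2, inv_mul_eq_div, le_div_iff₀ hc, one_mul] at h3
  exact h3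

theorem sumsq_irr [Fintype G] {χ : G → ℂ} (hχ : IsIrrCharacter G χ) :
    ∑ g : G, ‖χ g‖ ^ 2 = (Nat.card G : ℝ) := by
  have hc : (Nat.card G : ℝ) ≠ 0 := by exact_mod_cast Nat.card_pos.ne'
  have := sumsq_eq χ
  rw [classInner_irr_self hχ] at this
  have h2 : (1 : ℝ) = (Nat.card G : ℝ)⁻¹ * ∑ g : G, ‖χ g‖ ^ 2 := by exact_mod_cast this
  field_simp at h2
  exact h2.symm

/-- A character restricted to a subgroup. -/
theorem le_sumsq_sub [Finite G] {χ : G → ℂ} (hχ : IsCharacter G χ) (h1 : χ 1 ≠ 0) (U : Subgroup G)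
    [Fintype U] : (Nat.card U : ℝ) ≤ ∑ g : U, ‖χ (g : G)‖ ^ 2 :=
  le_sumsq (isCharacter_comp U.subtype hχ) h1

/-- central elements do not change the absolute value -/
theorem norm_mul_central [Finite G] {χ : G → ℂ} (hχ : IsIrrCharacter G χ) {z : G}
    (hz : z ∈ Subgroup.center G) (g : G) : ‖χ (g * z)‖ = ‖χ g‖ := by
  obtain ⟨n, ρ, hρ, rfl⟩ := hχ
  obtain ⟨c, hc⟩ := Central.exists_smul_of_comm ρ hρ (ρ z) (fun x => by
    rw [← map_mul, ← map_mul, Subgroup.mem_center_iff.1 hz x])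
  have hn := Central.finrank_pos_of_irr ρ hρ
  have hc1 : ‖c‖ = 1 := by
    have h1 := Values.rep_pow_card ρ z
    rw [hc, smul_pow, one_pow] at h1
    have : Nontrivial (Fin n → ℂ) := Module.nontrivial_of_finrank_pos hn
    obtain ⟨v, hv⟩ := exists_ne (0 : Fin n → ℂ)
    have h2 := congrArg (fun f : Module.End ℂ (Fin n → ℂ) => f v) h1
    have h3 : c ^ Nat.card G • v = v := by simpa using h2
    have h4 : (c ^ (Nat.card G) - 1) • v = 0 := by rw [sub_smul, one_smul, h3, sub_self]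
    have h5 : c ^ (Nat.card G) = 1 := by
      rcases smul_eq_zero.1 h4 with h | h
      · exact sub_eq_zero.1 h
      · exact absurd h hv
    exact Complex.norm_eq_one_of_pow_eq_one h5 Nat.card_pos.ne'
  have h1 : ρ.character (g * z) = c * ρ.character g := by
    rw [Representation.character, Representation.character, map_mul, hc, mul_smul_comm, mul_one, map_smul,
      smul_eq_mul]
  rw [h1, norm_mul, hc1, one_mul]

end aux

section Heis

variable {H : Type u} [Group H] [Finite H]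

theorem heis_sum_le (U R Z : Subgroup H) [U.Normal] (hUR : U ⊔ R = ⊤) (hd : U ⊓ R = ⊥) (hZU : Z ≤ U)
    (hZ : Z ≤ Subgroup.center H)
    (hconj : ∀ ρ ∈ R, ρ ≠ 1 → ∀ u ∈ U, ∃ w : H, ∃ z ∈ Z, w * (ρ * u) * w⁻¹ = ρ * z)
    {M : H → ℂ} (hM : IsIrrCharacter H M) :
    ∑ᶠ ρ : {ρ : R // ρ ≠ 1}, ‖M ((ρ : R) : H)‖ ^ 2 ≤ (Nat.card R : ℝ) - 1 := by
  classical
  have := Fintype.ofFinite H
  have hfR := Fintype.ofFinite R
  have hfU := Fintype.ofFinite U
  have hbij : Function.Bijective (fun x : R × U => (x.1 : H) * x.2) := by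
    constructor
    · rintro ⟨r, u⟩ ⟨r', u'⟩ h
      have h : (r : H) * u = r' * u' := h
      have h1 : (r' : H)⁻¹ * r = u' * (u : H)⁻¹ := by
        rw [inv_mul_eq_iff_eq_mul, ← mul_assoc, ← h, mul_assoc, mul_inv_cancel, mul_one]
      have h2 : (r' : H)⁻¹ * r ∈ U ⊓ R := by
        refine ⟨?_, R.mul_mem (R.inv_mem r'.2) r.2⟩
        rw [h1]
        exact U.mul_mem u'.2 (U.inv_mem u.2)
      rw [hd, Subgroup.mem_bot] at h2
      have h3 : (r : H) = r' := by
        rw [inv_mul_eq_one] at h2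
        exact h2.symm
      have h4 : (u : H) = u' := by
        rw [h3] at h
        exact mul_left_cancel h
      exact Prod.ext (Subtype.ext h3) (Subtype.ext h4)
    · intro h
      have h1 : h ∈ R ⊔ U := by
        rw [sup_comm, hUR]
        exact Subgroup.mem_top _
      rw [← SetLike.mem_coe, Subgroup.mul_normal] at h1
      obtain ⟨r, hr, u, hu, hru⟩ := h1
      exact ⟨(⟨r, hr⟩, ⟨u, hu⟩), hru⟩
  have h1 : ∑ g : H, ‖M g‖ ^ 2 = ∑ ρ : R, ∑ u : U, ‖M ((ρ : H) * u)‖ ^ 2 := by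
    rw [← Fintype.sum_prod_type']
    exact (Fintype.sum_bijective _ hbij _ _ (fun x => rfl)).symm
  have hcard : (Nat.card H : ℝ) = Nat.card R * Nat.card U := by
    rw [← Nat.cast_mul, ← Nat.card_prod]
    exact_mod_cast (Nat.card_congr (Equiv.ofBijective _ hbij)).symm
  have h2 : ∀ ρ : R, ρ ≠ 1 → ∑ u : U, ‖M ((ρ : H) * u)‖ ^ 2 = Nat.card U * ‖M (ρ : H)‖ ^ 2 := by
    intro ρ hρ
    have h3 : ∀ u : U, ‖M ((ρ : H) * u)‖ ^ 2 = ‖M (ρ : H)‖ ^ 2 := by
      intro u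
      obtain ⟨w, z, hz, hw⟩ := hconj ρ ρ.2 (fun h => hρ (Subtype.ext h)) u u.2
      rw [← isIrr_isClassFunction hM ((ρ : H) * u) w, hw, norm_mul_central hM (hZ hz)]
    rw [Finset.sum_congr rfl (fun u _ => h3 u), Finset.sum_const, Finset.card_univ, nsmul_eq_mul,
      Nat.card_eq_fintype_card]
  rw [sumsq_irr hM, hcard, Fintype.sum_eq_add_sum_subtype_ne _ (1 : R)] at h1
  have h4 := le_sumsq_sub (isIrr_isCharacter hM) (isIrr_apply_one_ne_zero hM) U
  have h5 : ∑ u : U, ‖M (((1 : R) : H) * u)‖ ^ 2 = ∑ u : U, ‖M (u : H)‖ ^ 2 := by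
    refine Finset.sum_congr rfl fun u _ => ?_
    rw [Subgroup.coe_one, one_mul]
  rw [h5] at h1
  have h6 : ∑ i : {i : R // i ≠ 1}, ∑ u : U, ‖M (((i : R) : H) * u)‖ ^ 2 =
      Nat.card U * ∑ i : {i : R // i ≠ 1}, ‖M ((i : R) : H)‖ ^ 2 := by
    rw [Finset.mul_sum]
    exact Finset.sum_congr rfl fun i _ => h2 i.1 i.2
  rw [h6] at h1
  have hU : (0 : ℝ) < Nat.card U := by exact_mod_cast Nat.card_pos
  rw [finsum_eq_sum_of_fintype]
  nlinarith

theorem heis_ref (U R Z : Subgroup H) [U.Normal] (hUR : U ⊔ R = ⊤) (hd : U ⊓ R = ⊥) (hZU : Z ≤ U)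
    (hZ : Z ≤ Subgroup.center H)
    (hconj : ∀ ρ ∈ R, ρ ≠ 1 → ∀ u ∈ U, ∃ w : H, ∃ z ∈ Z, w * (ρ * u) * w⁻¹ = ρ * z)
    {M : H → ℂ} (hM : IsIrrCharacter H M) (hfix : ∑ᶠ ρ : R, M (ρ : H) = 0) :
    charDegree M + 1 ≤ Nat.card R ∧
      (charDegree M + 1 = Nat.card R → ∀ ρ ∈ R, ρ ≠ 1 → M ρ = -1) := by
  classical
  have := Fintype.ofFinite H
  have hfR := Fintype.ofFinite R
  have h1 := heis_sum_le U R Z hUR hd hZU hZ hconj hM
  rw [finsum_eq_sum_of_fintype] at h1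
  rw [finsum_eq_sum_of_fintype, Fintype.sum_eq_add_sum_subtype_ne _ (1 : R)] at hfix
  have h2 : ∑ i : {i : R // i ≠ 1}, M ((i : R) : H) = -(charDegree M : ℂ) := by
    rw [← charDegree_eq (isIrr_isCharacter hM)]
    exact (neg_eq_of_add_eq_zero_right hfix).symm
  have h3 : ∑ i : {i : R // i ≠ 1}, (M ((i : R) : H)).re = -(charDegree M : ℝ) := by
    rw [← Complex.re_sum, h2, Complex.neg_re, Complex.natCast_re]
  have hcard : (Fintype.card {i : R // i ≠ 1} : ℝ) = Nat.card R - 1 := by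
    have h4 : Fintype.card {i : R // i ≠ 1} = Fintype.card R - 1 := by
      rw [Fintype.card_subtype_compl, Fintype.card_subtype_eq]
    have h5 : 1 ≤ Fintype.card R := Fintype.card_pos
    rw [h4, Nat.cast_sub h5, Nat.cast_one, Nat.card_eq_fintype_card]
  have h4 : ∑ i : {i : R // i ≠ 1}, ‖M ((i : R) : H) + 1‖ ^ 2 =
      ∑ i : {i : R // i ≠ 1}, ‖M ((i : R) : H)‖ ^ 2 + 2 * ∑ i : {i : R // i ≠ 1}, (M ((i : R) : H)).re +
        Fintype.card {i : R // i ≠ 1} := by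
    rw [Finset.mul_sum, ← Finset.sum_add_distrib, ← Finset.card_univ, ← nsmul_one, ← Finset.sum_const,
      ← Finset.sum_add_distrib]
    refine Finset.sum_congr rfl fun i _ => ?_
    rw [← Complex.normSq_eq_norm_sq, ← Complex.normSq_eq_norm_sq, Complex.normSq_apply, Complex.normSq_apply,
      Complex.add_re, Complex.add_im, Complex.one_re, Complex.one_im]
    ring
  have h5 : 0 ≤ ∑ i : {i : R // i ≠ 1}, ‖M ((i : R) : H) + 1‖ ^ 2 :=
    Finset.sum_nonneg fun i _ => sq_nonneg _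
  rw [h3, hcard] at h4
  constructor
  · have h6 : (charDegree M : ℝ) + 1 ≤ Nat.card R := by linarith
    exact_mod_cast h6
  · intro he ρ hρ hρ1
    have he' : (charDegree M : ℝ) + 1 = Nat.card R := by exact_mod_cast he
    have h6 : ∑ i : {i : R // i ≠ 1}, ‖M ((i : R) : H) + 1‖ ^ 2 = 0 := by linarith
    rw [Finset.sum_eq_zero_iff_of_nonneg (fun i _ => sq_nonneg _)] at h6
    have h7 := h6 ⟨⟨ρ, hρ⟩, fun h => hρ1 (congrArg Subtype.val h)⟩ (Finset.mem_univ _)
    have h8 : ‖M ρ + 1‖ = 0 := by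
      exact pow_eq_zero_iff (two_ne_zero) |>.1 h7
    exact eq_neg_of_add_eq_zero_left (norm_eq_zero.1 h8)

/-- a character which is a multiple of `l` on the central subgroup `Z` of `U`: `|U : K| ≤ M(1)²` -/
theorem heis_deg (U Z : Subgroup H) (hUZ : ∀ u ∈ U, ∀ w ∈ U, u * w * u⁻¹ * w⁻¹ ∈ Z)
    (K : Subgroup H) {M : H → ℂ} (hM : IsCharacter H M) (hM0 : M 1 ≠ 0) (l : Z →* ℂˣ)
    (hl : ∀ (z : Z) (g : H), M (z * g) = (l z : ℂˣ) * M g)
    (hK : ∀ u (_ : u ∈ U), (∀ w (_ : w ∈ U) (hz : u * w * u⁻¹ * w⁻¹ ∈ Z), l ⟨_, hz⟩ = 1) → u ∈ K) :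
    Nat.card U ≤ Nat.card K * charDegree M ^ 2 := by
  classical
  have := Fintype.ofFinite H
  have h0 : ∀ u ∈ U, u ∉ K → M u = 0 := by
    intro u hu huK
    by_contra hne
    apply huK
    apply hK u hu
    intro w hw hz
    have h1 : M u = (l ⟨_, hz⟩ : ℂˣ) * M u := by
      conv_lhs => rw [show u = (u * w * u⁻¹ * w⁻¹) * (w * u * w⁻¹) by group]
      rw [hl ⟨_, hz⟩, isCharacter_isClassFunction hM]
    have h2 : ((l ⟨_, hz⟩ : ℂˣ) : ℂ) = 1 := by
      have h3 : (((l ⟨_, hz⟩ : ℂˣ) : ℂ) - 1) * M u = 0 := by rw [sub_mul, ← h1, one_mul, sub_self]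
      rcases mul_eq_zero.1 h3 with h | h
      · exact sub_eq_zero.1 h
      · exact absurd h hne
    exact Units.ext h2
  have h1 := le_sumsq_sub hM hM0 U
  have h2 : ∑ g : U, ‖M (g : H)‖ ^ 2 = ∑ g ∈ (Finset.univ.filter fun g : H => g ∈ U), ‖M g‖ ^ 2 := by
    exact (Finset.sum_subtype (p := fun g : H => g ∈ U) (Finset.univ.filter fun g : H => g ∈ U)
      (fun x => by simp) (fun g => ‖M g‖ ^ 2)).symm
  have h3 : ∑ g ∈ (Finset.univ.filter fun g : H => g ∈ U), ‖M g‖ ^ 2 ≤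
      ∑ g ∈ (Finset.univ.filter fun g : H => g ∈ K), (charDegree M : ℝ) ^ 2 := by
    calc ∑ g ∈ (Finset.univ.filter fun g : H => g ∈ U), ‖M g‖ ^ 2
        = ∑ g ∈ ((Finset.univ.filter fun g : H => g ∈ U).filter fun g => g ∈ K), ‖M g‖ ^ 2 := by
          symm
          apply Finset.sum_filter_of_ne
          intro x hx hne
          by_contra hxK
          apply hne
          rw [h0 x (Finset.mem_filter.1 hx).2 hxK, norm_zero]
          norm_num
      _ ≤ ∑ g ∈ (Finset.univ.filter fun g : H => g ∈ K), ‖M g‖ ^ 2 := by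
          refine Finset.sum_le_sum_of_subset_of_nonneg ?_ fun _ _ _ => sq_nonneg _
          intro x hx
          rw [Finset.mem_filter] at hx ⊢
          exact ⟨Finset.mem_univ _, hx.2⟩
      _ ≤ _ := Finset.sum_le_sum fun g _ => by
          have := norm_le hM g
          exact pow_le_pow_left₀ (norm_nonneg _) this 2
  rw [Finset.sum_const, nsmul_eq_mul] at h3
  have h4 : (Finset.univ.filter fun g : H => g ∈ K).card = Nat.card K := by
    rw [Nat.card_eq_fintype_card, Fintype.card_subtype]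
  rw [h4] at h3
  have h5 : (Nat.card U : ℝ) ≤ Nat.card K * (charDegree M : ℝ) ^ 2 := by
    linarith [h1, h2.le, h3]
  exact_mod_cast h5

/-- equality for irreducible characters of `U` when the radical is `Z` -/
theorem heis_deg_eq (Z : Subgroup H) (hUZ : ∀ u w : H, u * w * u⁻¹ * w⁻¹ ∈ Z)
    {M : H → ℂ} (hM : IsIrrCharacter H M) (l : Z →* ℂˣ)
    (hl : ∀ (z : Z) (g : H), M (z * g) = (l z : ℂˣ) * M g)
    (hK : ∀ u : H, (∀ w, l ⟨_, hUZ u w⟩ = 1) → u ∈ Z) :
    Nat.card H = Nat.card Z * charDegree M ^ 2 := by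
  classical
  have := Fintype.ofFinite H
  have h0 : ∀ u, u ∉ Z → M u = 0 := by
    intro u huK
    by_contra hne
    apply huK
    apply hK u
    intro w
    have h1 : M u = (l ⟨_, hUZ u w⟩ : ℂˣ) * M u := by
      conv_lhs => rw [show u = (u * w * u⁻¹ * w⁻¹) * (w * u * w⁻¹) by group]
      rw [hl ⟨_, hUZ u w⟩, isIrr_isClassFunction hM]
    have h2 : ((l ⟨_, hUZ u w⟩ : ℂˣ) : ℂ) = 1 := by
      have h3 : (((l ⟨_, hUZ u w⟩ : ℂˣ) : ℂ) - 1) * M u = 0 := by rw [sub_mul, ← h1, one_mul, sub_self]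
      rcases mul_eq_zero.1 h3 with h | h
      · exact sub_eq_zero.1 h
      · exact absurd h hne
    exact Units.ext h2
  have hz : ∀ z ∈ Z, ‖M z‖ = charDegree M := by
    intro z hz
    have h1 := hl ⟨z, hz⟩ 1
    rw [mul_one] at h1
    have h2 : ‖((l ⟨z, hz⟩ : ℂˣ) : ℂ)‖ = 1 := by
      have h3 : (l ⟨z, hz⟩) ^ Nat.card Z = 1 := by
        rw [← map_pow, pow_card_eq_one', map_one]
      have h4 : ((l ⟨z, hz⟩ : ℂˣ) : ℂ) ^ Nat.card Z = 1 := by
        rw [← Units.val_pow_eq_pow_val, h3, Units.val_one]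
      exact Complex.norm_eq_one_of_pow_eq_one h4 Nat.card_pos.ne'
    show ‖M z‖ = _
    rw [show M z = _ from h1, norm_mul, h2, one_mul, charDegree_eq (isIrr_isCharacter hM), Complex.norm_natCast]
  have h1 := sumsq_irr hM
  have h2 : ∑ g : H, ‖M g‖ ^ 2 = ∑ g ∈ (Finset.univ.filter fun g : H => g ∈ Z), (charDegree M : ℝ) ^ 2 := by
    rw [Finset.sum_filter]
    refine Finset.sum_congr rfl fun g _ => ?_
    split_ifs with h
    · rw [hz g h]
    · rw [h0 g h, norm_zero]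
      norm_num
  rw [h2, Finset.sum_const, nsmul_eq_mul] at h1
  have h4 : (Finset.univ.filter fun g : H => g ∈ Z).card = Nat.card Z := by
    rw [Nat.card_eq_fintype_card, Fintype.card_subtype]
  rw [h4] at h1
  exact_mod_cast h1.symm

end Heis

end Cfsg.Agent.H418.CC
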